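import Groth.Agent.H83.Quasi.Spread
import Groth.Agent.H87.HopfStage
import Mathlib.RingTheory.IsTensorProduct
import Mathlib.RingTheory.Adjoin.Tower

/-! Diagonalisability at a limit of rings holds at a finite stage. -/

set_option autoImplicit false
set_option linter.unusedSectionVars false
set_option linter.style.haveILetI false

universe u

open TensorProduct

namespace Groth.Agent.H24.DiagLimit

open Groth.Agent.H83.Quasi Groth.Agent.H83.MultType

/-- Diagonalisable at a finitely generated stage of `A` over `B`. -/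
def Down (B : Type u) [CommRing B] (A : Type u) [CommRing A] [Algebra B A] (S : Type u) [CommRing S] [Algebra B S]
    (D : Type u) [CommRing D] [HopfAlgebra S D] : Prop :=
  ∃ (B' : Subalgebra B A) (S' : Type u) (_ : CommRing S') (_ : Algebra B S') (_ : Algebra B' S') (_ : Algebra S S')
    (_ : IsScalarTower B B' S') (_ : IsScalarTower B S S'),
    B'.FG ∧ Algebra.IsPushout B B' S S' ∧ SGA3b.IsDiag S' (S' ⊗[S] D)

variable {B : Type u} [CommRing B] {A : Type u} [CommRing A] [Algebra B A] {S : Type u} [CommRing S] [Algebra B S]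
  {L : Type u} [CommRing L] [Algebra B L] [Algebra A L] [Algebra S L] [IsScalarTower B A L] [IsScalarTower B S L]
  [Algebra.IsPushout B A S L]

attribute [local instance] Algebra.TensorProduct.rightAlgebra in
variable (S L) in
theorem exists_stage (B' : Subalgebra B A) :
    ∃ (S' : Type u) (_ : CommRing S') (_ : Algebra B S') (_ : Algebra B' S') (_ : Algebra S S')
      (_ : IsScalarTower B B' S') (_ : IsScalarTower B S S') (_ : Algebra S' L)
      (_ : IsScalarTower S S' L) (_ : IsScalarTower B' S' L),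
      Algebra.IsPushout B B' S S' ∧ Algebra.IsPushout B' A S' L := by
  let f : B' ⊗[B] S →ₐ[B] L := Algebra.TensorProduct.lift (IsScalarTower.toAlgHom B B' L) (IsScalarTower.toAlgHom B S L)
    fun _ _ => Commute.all _ _
  letI : Algebra (B' ⊗[B] S) L := f.toRingHom.toAlgebra
  haveI : IsScalarTower S (B' ⊗[B] S) L := IsScalarTower.of_algebraMap_eq fun s => by
    show algebraMap S L s = f ((1 : B') ⊗ₜ[B] s)
    simp [f]
  haveI : IsScalarTower B' (B' ⊗[B] S) L := IsScalarTower.of_algebraMap_eq fun b => by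
    show algebraMap B' L b = f (b ⊗ₜ[B] (1 : S))
    simp [f]
  haveI : IsScalarTower B (B' ⊗[B] S) L := IsScalarTower.of_algebraMap_eq fun b => (f.commutes b).symm
  haveI : Algebra.IsPushout B B' S (B' ⊗[B] S) := inferInstance
  exact ⟨B' ⊗[B] S, inferInstance, inferInstance, inferInstance, inferInstance, inferInstance, inferInstance,
    inferInstance, inferInstance, inferInstance, inferInstance,
    (Algebra.IsPushout.comp_iff B B' S (B' ⊗[B] S)).mp inferInstance⟩

variable {D : Type u} [CommRing D] [HopfAlgebra S D]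

/-- It suffices to descend over a finitely generated stage. -/
theorem down_of_stage (B' : Subalgebra B A) (hB' : B'.FG) (S' : Type u) [CommRing S'] [Algebra B S'] [Algebra B' S']
    [Algebra S S'] [IsScalarTower B B' S'] [IsScalarTower B S S'] (hpo : Algebra.IsPushout B B' S S')
    (h : Down B' A S' (S' ⊗[S] D)) : Down B A S D := by
  obtain ⟨B'', S'', _, _, _, _, _, _, hfg, hpo', M, _, ⟨e⟩⟩ := h
  haveI := hpo
  haveI := hpo'
  letI : Algebra B S'' := Algebra.compHom S'' (algebraMap B B')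
  letI : Algebra S S'' := Algebra.compHom S'' (algebraMap S S')
  haveI : IsScalarTower B B' S'' := IsScalarTower.of_algebraMap_eq fun _ => rfl
  haveI : IsScalarTower S S' S'' := IsScalarTower.of_algebraMap_eq fun _ => rfl
  haveI : IsScalarTower B S' S'' := IsScalarTower.of_algebraMap_eq fun b => by
    rw [IsScalarTower.algebraMap_apply B B' S', ← IsScalarTower.algebraMap_apply B' S' S'']
    rfl
  haveI : IsScalarTower B S S'' := IsScalarTower.of_algebraMap_eq fun b => by
    rw [IsScalarTower.algebraMap_apply S S' S'', ← IsScalarTower.algebraMap_apply B S S', ← IsScalarTower.algebraMap_apply B S' S'']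
  haveI : IsScalarTower B B'' S'' := IsScalarTower.of_algebraMap_eq fun b => by
    rw [IsScalarTower.algebraMap_apply B B' B'', ← IsScalarTower.algebraMap_apply B' B'' S'']
    rfl
  haveI : Algebra.FiniteType B B' := B'.fg_iff_finiteType.1 hB'
  haveI : Algebra.FiniteType B' B'' := B''.fg_iff_finiteType.1 hfg
  have hft : Algebra.FiniteType B B'' := Algebra.FiniteType.trans (S := B') inferInstance inferInstance
  have hcomp : Algebra.IsPushout B B'' S S'' := (Algebra.IsPushout.comp_iff B B' S S').mpr hpo'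
  obtain ⟨T, -⟩ := exists_towerEquiv S S' S'' D
  exact ⟨B''.restrictScalars B, S'', inferInstance, inferInstance, inferInstanceAs (Algebra B'' S''), inferInstance,
    inferInstanceAs (IsScalarTower B B'' S''), inferInstance, (Subalgebra.fg_iff_finiteType _).2 hft, hcomp, M,
    inferInstance, ⟨T.trans e⟩⟩

variable (A) in
/-- Finitely many elements killed in the limit die at a finitely generated stage. -/
theorem exists_kill {X : Type u} [AddCommGroup X] [Module S X] {ι : Type u} [Finite ι] (x : ι → X)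
    (hx : ∀ i, (1 : L) ⊗ₜ[S] x i = 0) :
    ∃ B' : Subalgebra B A, B'.FG ∧ ∀ (S' : Type u) [CommRing S'] [Algebra B S'] [Algebra B' S'] [Algebra S S']
      [IsScalarTower B B' S'] [IsScalarTower B S S'], Algebra.IsPushout B B' S S' → ∀ i, (1 : S') ⊗ₜ[S] x i = 0 := by
  classical
  haveI := Fintype.ofFinite ι
  letI : Module B X := Module.compHom X (algebraMap B S)
  haveI : IsScalarTower B S X := IsScalarTower.of_algebraMap_smul fun _ _ => rfl
  have h0 : ∀ t ∈ Finset.univ.image (fun i => (1 : (⊥ : Subalgebra B A)) ⊗ₜ[B] x i),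
      LinearMap.rTensor X (⊥ : Subalgebra B A).val.toLinearMap t = 0 := by
    intro t ht
    obtain ⟨i, -, rfl⟩ := Finset.mem_image.1 ht
    have h := congrArg (Algebra.IsPushout.cancelBaseChange B A S L X) (hx i)
    rw [Algebra.IsPushout.cancelBaseChange_tmul, map_zero] at h
    simpa using h
  obtain ⟨B', hle, hfg, hB'⟩ := Groth.Agent.H87.HopfStage.exists_kill (A := A) Subalgebra.fg_bot _ h0
  refine ⟨B', hfg, fun S' _ _ _ _ _ _ hpo i => ?_⟩
  haveI := hpo
  apply (Algebra.IsPushout.cancelBaseChange B B' S S' X).injective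
  rw [Algebra.IsPushout.cancelBaseChange_tmul, map_zero]
  have h := hB' _ (Finset.mem_image_of_mem _ (Finset.mem_univ i))
  simpa using h

variable (A) in
/-- Finitely many elements of the limit come from a finitely generated stage. -/
theorem exists_lift {X : Type u} [AddCommGroup X] [Module S X] {ι : Type u} [Finite ι] (x : ι → L ⊗[S] X) :
    ∃ B' : Subalgebra B A, B'.FG ∧ ∀ (S' : Type u) [CommRing S'] [Algebra B S'] [Algebra B' S'] [Algebra S S']
      [IsScalarTower B B' S'] [IsScalarTower B S S'] [Algebra S' L] [IsScalarTower S S' L] [IsScalarTower B' S' L],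
      Algebra.IsPushout B B' S S' →
        ∀ i, ∃ y : S' ⊗[S] X, LinearMap.rTensor X (IsScalarTower.toAlgHom S S' L).toLinearMap y = x i := by
  classical
  haveI := Fintype.ofFinite ι
  letI : Module B X := Module.compHom X (algebraMap B S)
  haveI : IsScalarTower B S X := IsScalarTower.of_algebraMap_smul fun _ _ => rfl
  obtain ⟨B', hfg, hB'⟩ := Groth.Agent.H87.HopfStage.exists_level (A := A)
    (Finset.univ.image fun i => Algebra.IsPushout.cancelBaseChange B A S L X (x i))
  refine ⟨B', hfg, fun S' _ _ _ _ _ _ _ _ _ hpo i => ?_⟩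
  haveI := hpo
  obtain ⟨w, hw⟩ := hB' _ (Finset.mem_image_of_mem _ (Finset.mem_univ i))
  refine ⟨(Algebra.IsPushout.cancelBaseChange B B' S S' X).symm w, ?_⟩
  apply (Algebra.IsPushout.cancelBaseChange B A S L X).injective
  rw [← hw]
  clear hw
  induction w using TensorProduct.induction_on with
  | zero => simp
  | add p q hp hq => simp only [map_add, hp, hq]
  | tmul b y =>
    rw [Algebra.IsPushout.cancelBaseChange_symm_tmul]
    apply (Algebra.IsPushout.cancelBaseChange B A S L X).symm.injective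
    rw [LinearEquiv.symm_apply_apply]
    simp only [LinearMap.rTensor_tmul, AlgHom.toLinearMap_apply, IsScalarTower.coe_toAlgHom']
    rw [Algebra.IsPushout.cancelBaseChange_symm_tmul, ← IsScalarTower.algebraMap_apply]
    rfl

theorem tower_symm_tmul {S' : Type u} [CommRing S'] [Algebra S S'] [Algebra S' L] [IsScalarTower S S' L]
    (T : L ⊗[S] D ≃ₐc[L] L ⊗[S'] (S' ⊗[S] D)) (hT : ∀ (s : L) (a : D), T (s ⊗ₜ[S] a) = s ⊗ₜ[S'] ((1 : S') ⊗ₜ[S] a))
    (y : S' ⊗[S] D) :
    T.symm ((1 : L) ⊗ₜ[S'] y) = LinearMap.rTensor D (IsScalarTower.toAlgHom S S' L).toLinearMap y := by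
  induction y using TensorProduct.induction_on with
  | zero => simp
  | add p q hp hq => simp only [TensorProduct.tmul_add, map_add, hp, hq]
  | tmul s d =>
    apply EquivLike.injective T
    rw [show T (T.symm ((1 : L) ⊗ₜ[S'] (s ⊗ₜ[S] d))) = _ from T.apply_symm_apply _, LinearMap.rTensor_tmul, hT]
    rw [show s ⊗ₜ[S] d = s • ((1 : S') ⊗ₜ[S] d) by rw [TensorProduct.smul_tmul', smul_eq_mul, mul_one],
      ← TensorProduct.smul_tmul, Algebra.smul_def, mul_one]
    rfl

theorem lift_baseChange (S' : Type u) [CommRing S'] [Algebra S S'] {M : Type u} [CommGroup M] (χ : M →* D)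
    (y : MonoidAlgebra S' M) :
    MonoidAlgebra.lift S' (S' ⊗[S] D) M ((Algebra.TensorProduct.includeRight : D →ₐ[S] S' ⊗[S] D).toMonoidHom.comp χ) y =
      Algebra.TensorProduct.map (AlgHom.id S' S') (MonoidAlgebra.lift S D M χ)
        ((MonoidAlgebra.scalarTensorEquiv S S' (M := M)).symm y) := by
  induction y using MonoidAlgebra.induction_linear with
  | zero => simp
  | add a b ha hb => simp only [map_add, ha, hb]
  | single m r => simp [TensorProduct.smul_tmul']

theorem bijective_limit {M : Type u} [CommGroup M] (e : (L ⊗[S] D) ≃ₐc[L] MonoidAlgebra L M) (χ : M →* D)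
    (hχ : ∀ m, e ((1 : L) ⊗ₜ[S] χ m) = MonoidAlgebra.single m 1) :
    Function.Bijective (Algebra.TensorProduct.map (AlgHom.id L L) (MonoidAlgebra.lift S D M χ)) := by
  have h1 : (e : (L ⊗[S] D) → MonoidAlgebra L M) ∘ Algebra.TensorProduct.map (AlgHom.id L L) (MonoidAlgebra.lift S D M χ) ∘
      (MonoidAlgebra.scalarTensorEquiv S L (M := M)).symm = id := by
    funext y
    simp only [Function.comp_apply, id_eq]
    induction y using MonoidAlgebra.induction_linear with
    | zero => simp
    | add a b ha hb => simp only [map_add, ha, hb]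
    | single m r =>
      have h0 : Algebra.TensorProduct.map (AlgHom.id L L) (MonoidAlgebra.lift S D M χ)
          ((MonoidAlgebra.scalarTensorEquiv S L).symm (MonoidAlgebra.single m r)) = r • ((1 : L) ⊗ₜ[S] χ m) := by
        simp [TensorProduct.smul_tmul']
      rw [h0, map_smul, hχ, MonoidAlgebra.smul_single, smul_eq_mul, mul_one]
  have h2 : Function.Bijective (id : MonoidAlgebra L M → MonoidAlgebra L M) := Function.bijective_id
  rw [← h1] at h2
  exact (Function.Bijective.of_comp_iff _ (MonoidAlgebra.scalarTensorEquiv S L (M := M)).symm.bijective).mp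
    ((Function.Bijective.of_comp_iff' (EquivLike.bijective e) _).mp h2)

/-- The data over a stage. -/
theorem push {M : Type u} [CommGroup M] (e : (L ⊗[S] D) ≃ₐc[L] MonoidAlgebra L M) (χ : M →* D)
    (hgl : ∀ m, IsGroupLikeElem S (χ m)) (hχ : ∀ m, e ((1 : L) ⊗ₜ[S] χ m) = MonoidAlgebra.single m 1)
    (S' : Type u) [CommRing S'] [Algebra S S'] [Algebra S' L] [IsScalarTower S S' L] :
    ∃ e' : (L ⊗[S'] (S' ⊗[S] D)) ≃ₐc[L] MonoidAlgebra L M,
      (∀ m, IsGroupLikeElem S' (((Algebra.TensorProduct.includeRight : D →ₐ[S] S' ⊗[S] D).toMonoidHom.comp χ) m)) ∧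
      ∀ m, e' ((1 : L) ⊗ₜ[S'] (((Algebra.TensorProduct.includeRight : D →ₐ[S] S' ⊗[S] D).toMonoidHom.comp χ) m)) =
        MonoidAlgebra.single m 1 := by
  obtain ⟨T, hT⟩ := exists_towerEquiv S S' L D
  refine ⟨T.symm.trans e, fun m => groupLike_baseChange S' (hgl m), fun m => ?_⟩
  show e (T.symm ((1 : L) ⊗ₜ[S'] ((1 : S') ⊗ₜ[S] χ m))) = _
  rw [← hT, show T.symm (T ((1 : L) ⊗ₜ[S] χ m)) = _ from T.symm_apply_apply _, hχ]

set_option maxHeartbeats 800000 in
theorem down_of_surj [Algebra.FinitePresentation S D] {M : Type u} [CommGroup M] [Group.FG M]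
    (e : (L ⊗[S] D) ≃ₐc[L] MonoidAlgebra L M) (χ : M →* D) (hgl : ∀ m, IsGroupLikeElem S (χ m))
    (hχ : ∀ m, e ((1 : L) ⊗ₜ[S] χ m) = MonoidAlgebra.single m 1)
    (hs : Function.Surjective (MonoidAlgebra.lift S D M χ)) : Down B A S D := by
  classical
  haveI := finitePresentation_monoidAlgebra S M
  let f := MonoidAlgebra.lift S D M χ
  obtain ⟨k, hk⟩ := Algebra.FinitePresentation.ker_fG_of_surjective f hs
  have hkL : ∀ i : k, (1 : L) ⊗ₜ[S] (i : MonoidAlgebra S M) = 0 := fun i => by
    apply (bijective_limit e χ hχ).injective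
    rw [map_zero, Algebra.TensorProduct.map_tmul,
      show f i = 0 from RingHom.mem_ker.1 (hk.le (Ideal.subset_span i.2)), TensorProduct.tmul_zero]
  obtain ⟨B', hfg, hB'⟩ := exists_kill (B := B) (S := S) A (L := L) (fun i : k => (i : MonoidAlgebra S M)) hkL
  obtain ⟨S', _, _, _, _, _, _, _, _, _, hpo, -⟩ := exists_stage S L B'
  refine ⟨B', S', inferInstance, inferInstance, inferInstance, inferInstance, inferInstance, inferInstance, hfg, hpo,
    isDiag_of_bijective ((Algebra.TensorProduct.includeRight : D →ₐ[S] S' ⊗[S] D).toMonoidHom.comp χ)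
      (fun m => groupLike_baseChange S' (hgl m)) ?_⟩
  have hb : Function.Bijective (Algebra.TensorProduct.map (AlgHom.id S' S') f) := by
    refine ⟨?_, LinearMap.lTensor_surjective S' (g := f.toLinearMap) hs⟩
    have hker : RingHom.ker (Algebra.TensorProduct.map (AlgHom.id S S') f) = ⊥ := by
      rw [Algebra.TensorProduct.lTensor_ker f hs, show RingHom.ker f = Ideal.span (k : Set _) from hk.symm, eq_bot_iff, Ideal.map_span, Ideal.span_le]
      rintro _ ⟨z, hz, rfl⟩
      exact hB' S' hpo ⟨z, hz⟩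
    exact (RingHom.injective_iff_ker_eq_bot (Algebra.TensorProduct.map (AlgHom.id S S') f).toRingHom).2 hker
  have h := hb.comp (MonoidAlgebra.scalarTensorEquiv S S' (M := M)).symm.bijective
  convert h using 1
  funext y
  exact lift_baseChange S' χ y

set_option maxHeartbeats 800000 in
set_option synthInstance.maxHeartbeats 200000 in
theorem down_of_pre [Algebra.FinitePresentation S D] {M : Type u} [CommGroup M] [Group.FG M]
    (e : (L ⊗[S] D) ≃ₐc[L] MonoidAlgebra L M) (χ : M →* D) (hgl : ∀ m, IsGroupLikeElem S (χ m))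
    (hχ : ∀ m, e ((1 : L) ⊗ₜ[S] χ m) = MonoidAlgebra.single m 1)
    (t : Finset D) (ht : Algebra.adjoin S (t : Set D) = ⊤)
    (hy : ∀ d : t, ∃ y : MonoidAlgebra S M, (1 : L) ⊗ₜ[S] MonoidAlgebra.lift S D M χ y = (1 : L) ⊗ₜ[S] (d : D)) :
    Down B A S D := by
  classical
  choose y hy using hy
  obtain ⟨B', hfg, hB'⟩ := exists_kill (B := B) (S := S) A (L := L) (fun d : t => MonoidAlgebra.lift S D M χ (y d) - d) fun d => by
    rw [TensorProduct.tmul_sub, hy, sub_self]
  obtain ⟨S', _, _, _, _, _, _, _, _, _, hpo, hpo'⟩ := exists_stage S L B'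
  haveI := hpo'
  refine down_of_stage B' hfg S' hpo ?_
  obtain ⟨e', hgl', hχ'⟩ := push e χ hgl hχ S'
  haveI : IsScalarTower B' S' L := ‹_›
  refine down_of_surj e' _ hgl' hχ' ?_
  have hr : ∀ d : D, ((1 : S') ⊗ₜ[S] d) ∈
      (MonoidAlgebra.lift S' (S' ⊗[S] D) M ((Algebra.TensorProduct.includeRight : D →ₐ[S] S' ⊗[S] D).toMonoidHom.comp χ)).range := by
    intro d
    have hd : d ∈ Algebra.adjoin S (t : Set D) := ht ▸ trivial
    induction hd using Algebra.adjoin_induction with
    | mem z hz =>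
      refine ⟨MonoidAlgebra.scalarTensorEquiv S S' (M := M) ((1 : S') ⊗ₜ[S] y ⟨z, hz⟩), ?_⟩
      have h := hB' S' hpo ⟨z, hz⟩
      rw [TensorProduct.tmul_sub, sub_eq_zero] at h
      show MonoidAlgebra.lift S' (S' ⊗[S] D) M _ _ = _
      rw [lift_baseChange, AlgEquiv.symm_apply_apply, Algebra.TensorProduct.map_tmul]
      exact h
    | algebraMap r =>
      rw [Algebra.algebraMap_eq_smul_one, TensorProduct.tmul_smul, ← algebraMap_smul S' r]
      exact Subalgebra.smul_mem _ (one_mem _) _
    | add a b _ _ ha hb => rw [TensorProduct.tmul_add]; exact add_mem ha hb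
    | mul a b _ _ ha hb =>
      rw [show (1 : S') ⊗ₜ[S] (a * b) = ((1 : S') ⊗ₜ[S] a) * ((1 : S') ⊗ₜ[S] b) by
        rw [Algebra.TensorProduct.tmul_mul_tmul, one_mul]]
      exact mul_mem ha hb
  intro z
  show z ∈ (MonoidAlgebra.lift S' (S' ⊗[S] D) M _).range
  induction z using TensorProduct.induction_on with
  | zero => exact zero_mem _
  | add p q hp hq => exact add_mem hp hq
  | tmul s d =>
    rw [show s ⊗ₜ[S] d = s • ((1 : S') ⊗ₜ[S] d) by rw [TensorProduct.smul_tmul', smul_eq_mul, mul_one]]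
    exact Subalgebra.smul_mem _ (hr d) _

set_option maxHeartbeats 800000 in
set_option synthInstance.maxHeartbeats 200000 in
theorem down_of_hom [Algebra.FinitePresentation S D] {M : Type u} [CommGroup M] [Group.FG M]
    (e : (L ⊗[S] D) ≃ₐc[L] MonoidAlgebra L M) (χ : M →* D) (hgl : ∀ m, IsGroupLikeElem S (χ m))
    (hχ : ∀ m, e ((1 : L) ⊗ₜ[S] χ m) = MonoidAlgebra.single m 1) : Down B A S D := by
  classical
  obtain ⟨t, ht⟩ := (inferInstance : Algebra.FiniteType S D).out
  choose x hx using fun d : t => (bijective_limit e χ hχ).surjective ((1 : L) ⊗ₜ[S] (d : D))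
  obtain ⟨B', hfg, hB'⟩ := exists_lift (B := B) A x
  obtain ⟨S', _, _, _, _, _, _, _, _, _, hpo, hpo'⟩ := exists_stage S L B'
  haveI := hpo'
  refine down_of_stage B' hfg S' hpo ?_
  obtain ⟨e', hgl', hχ'⟩ := push e χ hgl hχ S'
  obtain ⟨T, hT⟩ := exists_towerEquiv S S' L D
  refine down_of_pre e' _ hgl' hχ' (t.image fun d => (1 : S') ⊗ₜ[S] d) ?_ ?_
  · rw [eq_top_iff]
    intro z hz0
    clear hz0
    induction z using TensorProduct.induction_on with
    | zero => exact zero_mem _
    | add p q hp hq => exact add_mem hp hq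
    | tmul s d =>
      rw [show s ⊗ₜ[S] d = s • ((1 : S') ⊗ₜ[S] d) by rw [TensorProduct.smul_tmul', smul_eq_mul, mul_one]]
      refine Subalgebra.smul_mem _ ?_ _
      have hd : d ∈ Algebra.adjoin S (t : Set D) := ht ▸ trivial
      induction hd using Algebra.adjoin_induction with
      | mem w hw => exact Algebra.subset_adjoin (Finset.mem_image_of_mem _ hw)
      | algebraMap r =>
        rw [Algebra.algebraMap_eq_smul_one, TensorProduct.tmul_smul, ← algebraMap_smul S' r]
        exact Subalgebra.smul_mem _ (one_mem _) _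
      | add a b _ _ ha hb => rw [TensorProduct.tmul_add]; exact add_mem ha hb
      | mul a b _ _ ha hb =>
        rw [show (1 : S') ⊗ₜ[S] (a * b) = ((1 : S') ⊗ₜ[S] a) * ((1 : S') ⊗ₜ[S] b) by
          rw [Algebra.TensorProduct.tmul_mul_tmul, one_mul]]
        exact mul_mem ha hb
  · rintro ⟨_, hd⟩
    obtain ⟨d, hd', rfl⟩ := Finset.mem_image.1 hd
    obtain ⟨w, hw⟩ := hB' S' hpo ⟨d, hd'⟩
    refine ⟨MonoidAlgebra.scalarTensorEquiv S S' (M := M) w, ?_⟩
    rw [lift_baseChange, AlgEquiv.symm_apply_apply]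
    apply EquivLike.injective T.symm
    rw [tower_symm_tmul T hT, tower_symm_tmul T hT, LinearMap.rTensor_tmul]
    refine Eq.trans ?_ ((hx ⟨d, hd'⟩).trans (by simp))
    rw [← hw]
    clear hw
    induction w using TensorProduct.induction_on with
    | zero => simp
    | add p q hp hq => simp only [map_add, hp, hq]
    | tmul s m => simp

set_option maxHeartbeats 800000 in
set_option synthInstance.maxHeartbeats 200000 in
theorem down_of_groupLike [Algebra.FinitePresentation S D] {M : Type u} [CommGroup M] [Group.FG M]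
    (e : (L ⊗[S] D) ≃ₐc[L] MonoidAlgebra L M)
    (G : Finset M) (hG : Subgroup.closure (G : Set M) = ⊤) (w : M → D) (hgl : ∀ m ∈ G, IsGroupLikeElem S (w m))
    (hw : ∀ m ∈ G, e ((1 : L) ⊗ₜ[S] w m) = MonoidAlgebra.single m 1) : Down B A S D := by
  classical
  obtain ⟨π, hπ⟩ := exists_lattice_hom (fun m : G => m.1)
  have hπs : Function.Surjective π := by
    rw [← MonoidHom.range_eq_top, eq_top_iff, ← hG, Subgroup.closure_le]
    exact fun m hm => ⟨_, hπ ⟨m, hm⟩⟩
  letI : CommGroup (GroupLike S D) := GroupLike.instCommGroup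
  obtain ⟨χ₀, hχ₀⟩ := exists_lattice_hom (fun m : G => (⟨_, hgl m.1 m.2⟩ : GroupLike S D))
  have hχL : ∀ f, e ((1 : L) ⊗ₜ[S] (χ₀ f).val) = MonoidAlgebra.single (π f) 1 := by
    let lhs : (↥G → Multiplicative ℤ) →* MonoidAlgebra L M :=
      { toFun := fun f => e ((1 : L) ⊗ₜ[S] (χ₀ f).val)
        map_one' := by rw [map_one]; exact map_one e
        map_mul' := fun a b => by
          rw [map_mul, GroupLike.val_mul, show (1 : L) ⊗ₜ[S] ((χ₀ a).val * (χ₀ b).val) =
            ((1 : L) ⊗ₜ[S] (χ₀ a).val) * ((1 : L) ⊗ₜ[S] (χ₀ b).val) by rw [Algebra.TensorProduct.tmul_mul_tmul, one_mul]]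
          exact map_mul e _ _ }
    suffices h : lhs.toHomUnits = ((MonoidAlgebra.of L M).comp π).toHomUnits from
      fun f => congrArg Units.val (DFunLike.congr_fun h f)
    apply MonoidHom.pi_ext
    intro m t
    have h1 : lhs.toHomUnits (Pi.mulSingle m (Multiplicative.ofAdd 1)) =
        ((MonoidAlgebra.of L M).comp π).toHomUnits (Pi.mulSingle m (Multiplicative.ofAdd 1)) := by
      refine Units.ext ?_
      show e ((1 : L) ⊗ₜ[S] (χ₀ _).val) = MonoidAlgebra.single (π _) 1
      rw [hχ₀, hπ]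
      exact hw m.1 m.2
    rw [show t = Multiplicative.ofAdd (1 : ℤ) ^ t.toAdd from by apply Multiplicative.toAdd.injective; simp,
      show Pi.mulSingle m (Multiplicative.ofAdd (1 : ℤ) ^ t.toAdd) =
        (MonoidHom.mulSingle (fun _ : G => Multiplicative ℤ) m) (Multiplicative.ofAdd (1 : ℤ) ^ t.toAdd) from rfl,
      map_zpow, map_zpow, map_zpow]
    exact congrArg (· ^ t.toAdd) h1
  obtain ⟨ker, hker⟩ : ∃ ker : Finset (↥G → Multiplicative ℤ), Subgroup.closure (ker : Set (↥G → Multiplicative ℤ)) = π.ker := by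
    haveI : Module.Finite ℤ (Additive (↥G → Multiplicative ℤ)) :=
      Module.Finite.of_surjective
        (AddMonoidHom.toIntLinearMap ({ toFun := fun v => Additive.ofMul (fun i => Multiplicative.ofAdd (v i)),
                                        map_zero' := rfl, map_add' := fun _ _ => rfl } : (↥G → ℤ) →+ Additive (↥G → Multiplicative ℤ)))
        (fun x => ⟨fun i => (x.toMul i).toAdd, rfl⟩)
    obtain ⟨t, ht⟩ := IsNoetherian.noetherian (AddSubgroup.toIntSubmodule (Subgroup.toAddSubgroup π.ker))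
    refine ⟨t.map Additive.toMul.toEmbedding, ?_⟩
    apply Subgroup.toAddSubgroup.injective
    rw [Subgroup.toAddSubgroup_closure]
    apply AddSubgroup.toIntSubmodule.injective
    rw [← ht, ← Submodule.span_int_eq_addSubgroupClosure]
    ext x
    simp
  obtain ⟨B', hfg, hB'⟩ := exists_kill (B := B) (S := S) A (L := L) (fun f : ker => (χ₀ f).val - 1) fun f => by
    apply EquivLike.injective e
    rw [TensorProduct.tmul_sub, map_sub, hχL, show π f.1 = 1 from (hker ▸ Subgroup.subset_closure f.2 : f.1 ∈ π.ker), map_zero,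
      ← Algebra.TensorProduct.one_def, map_one]
    exact sub_self _
  obtain ⟨S', _, _, _, _, _, _, _, _, _, hpo, hpo'⟩ := exists_stage S L B'
  haveI := hpo'
  refine down_of_stage B' hfg S' hpo ?_
  obtain ⟨T, hT⟩ := exists_towerEquiv S S' L D
  letI : CommGroup (GroupLike S' (S' ⊗[S] D)) := GroupLike.instCommGroup
  let jG : GroupLike S D →* GroupLike S' (S' ⊗[S] D) :=
    { toFun := fun a => ⟨(1 : S') ⊗ₜ[S] a.val, groupLike_baseChange S' a.2⟩
      map_one' := GroupLike.val_injective rfl
      map_mul' := fun a b => GroupLike.val_injective (by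
        show (1 : S') ⊗ₜ[S] (a.val * b.val) = ((1 : S') ⊗ₜ[S] a.val) * ((1 : S') ⊗ₜ[S] b.val)
        rw [Algebra.TensorProduct.tmul_mul_tmul, one_mul]) }
  have hkill : π.ker ≤ MonoidHom.ker (jG.comp χ₀) := by
    rw [← hker, Subgroup.closure_le]
    intro f hf
    refine GroupLike.val_injective ?_
    show (1 : S') ⊗ₜ[S] (χ₀ f).val = 1
    have h := hB' S' hpo ⟨f, hf⟩
    rw [TensorProduct.tmul_sub, sub_eq_zero] at h
    rw [h]
    rfl
  let χG : M →* GroupLike S' (S' ⊗[S] D) := MonoidHom.liftOfSurjective π hπs ⟨_, hkill⟩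
  refine down_of_hom (T.symm.trans e) ((GroupLike.valMonoidHom S' (S' ⊗[S] D)).comp χG) (fun m => (χG m).2) fun m => ?_
  obtain ⟨f, rfl⟩ := hπs m
  rw [show ((GroupLike.valMonoidHom S' (S' ⊗[S] D)).comp χG) (π f) = (1 : S') ⊗ₜ[S] (χ₀ f).val from
    congrArg GroupLike.val (MonoidHom.liftOfRightInverse_comp_apply π _ (Function.rightInverse_surjInv hπs) ⟨_, hkill⟩ f)]
  show e (T.symm ((1 : L) ⊗ₜ[S'] ((1 : S') ⊗ₜ[S] (χ₀ f).val))) = _
  rw [← hT, show T.symm (T ((1 : L) ⊗ₜ[S] (χ₀ f).val)) = _ from T.symm_apply_apply _, hχL]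

set_option maxHeartbeats 800000 in
set_option synthInstance.maxHeartbeats 200000 in
theorem down_of_lift [Algebra.FinitePresentation S D] {M : Type u} [CommGroup M] [Group.FG M]
    (e : (L ⊗[S] D) ≃ₐc[L] MonoidAlgebra L M)
    (G : Finset M) (hG : Subgroup.closure (G : Set M) = ⊤) (w : M → D)
    (hw : ∀ m ∈ G, e ((1 : L) ⊗ₜ[S] w m) = MonoidAlgebra.single m 1) : Down B A S D := by
  classical
  have hgl : ∀ m ∈ G, IsGroupLikeElem L ((1 : L) ⊗ₜ[S] w m) := fun m hm => by
    have h := (groupLike_single (S := L) m).map e.symm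
    rwa [← hw m hm, show e.symm (e ((1 : L) ⊗ₜ[S] w m)) = _ from e.symm_apply_apply _] at h
  obtain ⟨B₁, hfg₁, hB₁⟩ := exists_kill (B := B) (S := S) A (L := L) (X := D ⊗[S] D)
    (fun m : G => CoalgebraStruct.comul (R := S) (w m) - w m ⊗ₜ[S] w m) fun m => by
    have h := ((groupLike_iff _).mp (hgl m m.2)).1
    rw [TensorProduct.tmul_sub, sub_eq_zero]
    refine (show (1 : L) ⊗ₜ[S] CoalgebraStruct.comul (R := S) (w m) = _ from h).trans ?_
    simp [inlS, inrS]
  obtain ⟨B₂, hfg₂, hB₂⟩ := exists_kill (B := B) (S := S) A (L := L) (X := S) (fun m : G => CoalgebraStruct.counit (R := S) (w m) - 1) fun m => by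
    have h := ((groupLike_iff _).mp (hgl m m.2)).2
    rw [TensorProduct.counit_tmul, CommSemiring.counit_apply] at h
    apply (TensorProduct.rid S L).injective
    rw [map_zero, TensorProduct.rid_tmul, sub_smul, one_smul, h, sub_self]
  let B' := B₁ ⊔ B₂
  obtain ⟨S', _, _, _, _, _, _, _, _, _, hpo, hpo'⟩ := exists_stage S L B'
  haveI := hpo'
  obtain ⟨S₁, _, _, _, _, _, _, _, _, _, hpo₁, -⟩ := exists_stage S L B₁
  obtain ⟨S₂, _, _, _, _, _, _, _, _, _, hpo₂, -⟩ := exists_stage S L B₂
  refine down_of_stage B' (hfg₁.sup hfg₂) S' hpo ?_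
  have hmap : ∀ (P : Subalgebra B A) (hP : P ≤ B') (Q : Type u) [CommRing Q] [Algebra B Q] [Algebra P Q] [Algebra S Q]
      [IsScalarTower B P Q] [IsScalarTower B S Q], Algebra.IsPushout B P S Q → Nonempty (Q →ₐ[S] S') := by
    intro P hP Q _ _ _ _ _ _ hQ
    haveI := hQ
    let g := Algebra.pushoutDesc (S := P) (R' := S) Q
      ((IsScalarTower.toAlgHom B B' S').comp (Subalgebra.inclusion hP)) (IsScalarTower.toAlgHom B S S')
      (fun _ _ => mul_comm _ _)
    exact ⟨{ g.toRingHom with commutes' := fun s => Algebra.pushoutDesc_right (S := P) (R' := S) Q _ _ _ s }⟩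
  obtain ⟨g₁⟩ := hmap B₁ le_sup_left S₁ hpo₁
  obtain ⟨g₂⟩ := hmap B₂ le_sup_right S₂ hpo₂
  obtain ⟨T, hT⟩ := exists_towerEquiv S S' L D
  refine down_of_groupLike (T.symm.trans e) G hG (fun m => (1 : S') ⊗ₜ[S] w m) (fun m hm => ?_) (fun m hm => ?_)
  · rw [groupLike_iff]
    constructor
    · have h := congrArg (LinearMap.rTensor (D ⊗[S] D) g₁.toLinearMap) (hB₁ S₁ hpo₁ ⟨m, hm⟩)
      rw [LinearMap.rTensor_tmul, map_zero, AlgHom.toLinearMap_apply, map_one, TensorProduct.tmul_sub, sub_eq_zero] at h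
      refine (show comulS S' ((1 : S') ⊗ₜ[S] w m) = _ from h).trans ?_
      simp [inlS, inrS]
    · have h := congrArg (LinearMap.rTensor S g₂.toLinearMap) (hB₂ S₂ hpo₂ ⟨m, hm⟩)
      rw [LinearMap.rTensor_tmul, map_zero, AlgHom.toLinearMap_apply, map_one] at h
      have h := congrArg (TensorProduct.rid S S') h
      rw [map_zero, TensorProduct.rid_tmul, sub_smul, one_smul, sub_eq_zero] at h
      rw [TensorProduct.counit_tmul, CommSemiring.counit_apply]
      exact h
  · show e (T.symm ((1 : L) ⊗ₜ[S'] ((1 : S') ⊗ₜ[S] w m))) = _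
    rw [← hT, show T.symm (T ((1 : L) ⊗ₜ[S] w m)) = _ from T.symm_apply_apply _, hw m hm]

set_option maxHeartbeats 800000 in
set_option synthInstance.maxHeartbeats 200000 in
/-- Diagonalisability over a limit descends to a finitely generated stage. -/
theorem down_of_diag [Algebra.FinitePresentation S D] {M : Type u} [CommGroup M] [Group.FG M]
    (e : (L ⊗[S] D) ≃ₐc[L] MonoidAlgebra L M) : Down B A S D := by
  classical
  obtain ⟨G, hG⟩ := Group.fg_def.mp (inferInstance : Group.FG M)
  obtain ⟨B', hfg, hB'⟩ := exists_lift (B := B) A (fun m : G => e.symm (MonoidAlgebra.single m.1 1))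
  obtain ⟨S', _, _, _, _, _, _, _, _, _, hpo, hpo'⟩ := exists_stage S L B'
  haveI := hpo'
  have hz : ∀ m : M, ∃ z : S' ⊗[S] D, m ∈ G →
      LinearMap.rTensor D (IsScalarTower.toAlgHom S S' L).toLinearMap z = e.symm (MonoidAlgebra.single m 1) := fun m => by
    by_cases hm : m ∈ G
    · obtain ⟨z, hz⟩ := hB' S' hpo ⟨m, hm⟩
      exact ⟨z, fun _ => hz⟩
    · exact ⟨0, fun h => absurd h hm⟩
  choose z hz using hz
  refine down_of_stage B' hfg S' hpo ?_
  obtain ⟨T, hT⟩ := exists_towerEquiv S S' L D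
  refine down_of_lift (T.symm.trans e) G hG z fun m hm => ?_
  show e (T.symm ((1 : L) ⊗ₜ[S'] z m)) = _
  rw [tower_symm_tmul T hT, hz m hm]
  exact e.apply_symm_apply _

end Groth.Agent.H24.DiagLimit
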