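import Groth.Agent.H24.DiagLimit.Main

/-! Passing from finitely generated subalgebras to a directed family of subrings. -/

set_option autoImplicit false
set_option linter.style.haveILetI false
set_option maxHeartbeats 2000000
set_option synthInstance.maxHeartbeats 400000

universe u

open TensorProduct

namespace Groth.Agent.H24.DiagLimit

open Groth.Agent.H83.Quasi Groth.Agent.H83.MultType

theorem exists_index {A : Type u} [CommRing A] {ι : Type u} [Preorder ι] [IsDirected ι (· ≤ ·)] [Nonempty ι]
    (B : ι → Subring A) (hmono : Monotone B) (hsup : ⨆ i, B i = ⊤) (R : Type u) [CommRing R] [Algebra R A]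
    [Algebra.FiniteType ℤ R] :
    ∃ (i : ι), ∀ r : R, algebraMap R A r ∈ B i := by
  classical
  obtain ⟨s, hs⟩ := (inferInstance : Algebra.FiniteType ℤ R).out
  have hd : Directed (· ≤ ·) B := hmono.directed_le
  have hx : ∀ x : R, ∃ i, algebraMap R A x ∈ B i := fun x =>
    (Subring.mem_iSup_of_directed hd).1 (hsup ▸ Subring.mem_top _)
  choose f hf using hx
  obtain ⟨i, hi⟩ := Finite.exists_le (fun x : s => f x.1)
  refine ⟨i, fun r => ?_⟩
  have hr : r ∈ Algebra.adjoin ℤ (s : Set R) := hs ▸ trivial
  induction hr using Algebra.adjoin_induction with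
  | mem x hx => exact hmono (hi ⟨x, hx⟩) (hf x)
  | algebraMap n => rw [← IsScalarTower.algebraMap_apply ℤ R A]; exact intCast_mem (B i) n
  | add a b _ _ ha hb => rw [map_add]; exact add_mem ha hb
  | mul a b _ _ ha hb => rw [map_mul]; exact mul_mem ha hb

theorem finitePresentation_of_iso {R C : Type u} [CommRing R] [CommRing C] [HopfAlgebra R C]
    (hft : Algebra.FiniteType R C) (h : SGA3b.IsIsotrivial R C) : Algebra.FinitePresentation R C := by
  obtain ⟨R', _, _, het, -, hff, M, _, ⟨e⟩⟩ := h
  haveI := hft
  haveI := hff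
  haveI : Algebra.FinitePresentation R' (R' ⊗[R] C) := by
    rcases subsingleton_or_nontrivial R' with hR | hR
    · haveI : Subsingleton (MonoidAlgebra R' M) := Module.subsingleton R' _
      haveI : Algebra.FinitePresentation R' (MonoidAlgebra R' M) :=
        Algebra.FinitePresentation.equiv (AlgEquiv.ofBijective (Algebra.ofId R' (MonoidAlgebra R' M))
          ⟨fun _ _ _ => Subsingleton.elim _ _, fun x => ⟨1, Subsingleton.elim _ x⟩⟩)
      exact Algebra.FinitePresentation.equiv e.toAlgEquiv.symm
    · haveI : Group.FG M := fg_of_finiteType hft e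
      haveI := finitePresentation_monoidAlgebra R' M
      exact Algebra.FinitePresentation.equiv e.toAlgEquiv.symm
  exact .of_finitePresentation_tensorProduct_of_faithfullyFlat R'

/-- Isotriviality is stable under base change. -/
theorem isIsotrivial_baseChange {R : Type u} [CommRing R] {B : Type u} [CommRing B] [HopfAlgebra R B] (L : Type u)
    [CommRing L] [Algebra R L] (h : SGA3b.IsIsotrivial R B) : SGA3b.IsIsotrivial L (L ⊗[R] B) := by
  obtain ⟨S, _, _, het, hfin, hff, M, _, ⟨e⟩⟩ := h
  haveI := het; haveI := hfin; haveI := hff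
  let U := L ⊗[R] S
  let g : S →ₐ[R] U := Algebra.TensorProduct.includeRight
  obtain ⟨e', -⟩ := exists_diag_map (A := B) g e
  obtain ⟨T, -⟩ := exists_towerEquiv R L U B
  exact ⟨U, inferInstance, inferInstance, inferInstance, inferInstance, inferInstance, M, inferInstance, ⟨T.symm.trans e'⟩⟩

end Groth.Agent.H24.DiagLimit
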