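import Groth.Agent.H24.DiagLimit.Down
import Groth.Agent.Lib.OT67.QuasiIso
import Groth.Agent.Lib.OT67.HopfDescent
import Mathlib.RingTheory.Smooth.NoetherianDescent
import Mathlib.RingTheory.Finiteness.Descent
import Mathlib.RingTheory.Finiteness.FinitePresentationLocal
import Mathlib.RingTheory.LocalRing.ResidueField.Ideal
import Mathlib.RingTheory.Spectrum.Prime.Chevalley

/-! Quasi-isotrivial groups descend to finitely generated rings. -/

set_option autoImplicit false
set_option linter.style.haveILetI false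
set_option linter.unusedSectionVars false
set_option maxHeartbeats 2000000
set_option synthInstance.maxHeartbeats 400000

universe u

open TensorProduct

namespace Groth.Agent.H24.DiagLimit

open Groth.Agent.H83.Quasi Groth.Agent.H83.MultType

/-- A point over two points with the same image. -/
theorem mem_range_pushout {B B' S : Type u} [CommRing B] [CommRing B'] [CommRing S] [Algebra B B'] [Algebra B S]
    (p : PrimeSpectrum B') (h : PrimeSpectrum.comap (algebraMap B B') p ∈ Set.range (PrimeSpectrum.comap (algebraMap B S))) :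
    p ∈ Set.range (PrimeSpectrum.comap (algebraMap B' (B' ⊗[B] S))) := by
  obtain ⟨q, hq⟩ := h
  let p0 := PrimeSpectrum.comap (algebraMap B B') p
  let f1 := Ideal.ResidueField.map p0.asIdeal p.asIdeal (algebraMap B B') rfl
  let f2 := Ideal.ResidueField.map p0.asIdeal q.asIdeal (algebraMap B S) (congrArg PrimeSpectrum.asIdeal hq).symm
  letI := f1.toAlgebra
  letI := f2.toAlgebra
  let T := p.asIdeal.ResidueField ⊗[p0.asIdeal.ResidueField] q.asIdeal.ResidueField
  haveI : Nontrivial T := inferInstance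
  obtain ⟨m, hm⟩ := Ideal.exists_maximal T
  letI := Ideal.Quotient.field m
  let g1 : p.asIdeal.ResidueField →+* T ⧸ m := (Ideal.Quotient.mk m).comp Algebra.TensorProduct.includeLeftRingHom
  let g2 : q.asIdeal.ResidueField →+* T ⧸ m :=
    (Ideal.Quotient.mk m).comp (Algebra.TensorProduct.includeRight : q.asIdeal.ResidueField →ₐ[p0.asIdeal.ResidueField] T).toRingHom
  letI : Algebra B (T ⧸ m) := ((g1.comp (algebraMap B' p.asIdeal.ResidueField)).comp (algebraMap B B')).toAlgebra
  let l1 : B' →ₐ[B] T ⧸ m := { g1.comp (algebraMap B' p.asIdeal.ResidueField) with commutes' := fun _ => rfl }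
  have hg12 : ∀ z, g2 (f2 z) = g1 (f1 z) := fun z => congrArg (Ideal.Quotient.mk m)
    (((Algebra.TensorProduct.includeRight : q.asIdeal.ResidueField →ₐ[p0.asIdeal.ResidueField] T).commutes z).trans rfl)
  have h1 : ∀ b, f1 (algebraMap B p0.asIdeal.ResidueField b) = algebraMap B' p.asIdeal.ResidueField (algebraMap B B' b) :=
    fun b => Ideal.ResidueField.map_algebraMap p0.asIdeal p.asIdeal (algebraMap B B') rfl b
  have h2 : ∀ b, f2 (algebraMap B p0.asIdeal.ResidueField b) = algebraMap S q.asIdeal.ResidueField (algebraMap B S b) :=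
    fun b => Ideal.ResidueField.map_algebraMap p0.asIdeal q.asIdeal (algebraMap B S) (congrArg PrimeSpectrum.asIdeal hq).symm b
  have hcomm : ∀ b, g2 (algebraMap S q.asIdeal.ResidueField (algebraMap B S b)) =
      g1 (algebraMap B' p.asIdeal.ResidueField (algebraMap B B' b)) := fun b => by rw [← h1, ← h2, hg12]
  let l2 : S →ₐ[B] T ⧸ m := { g2.comp (algebraMap S q.asIdeal.ResidueField) with commutes' := hcomm }
  let φ := Algebra.TensorProduct.productMap l1 l2
  refine ⟨⟨RingHom.ker φ.toRingHom, RingHom.ker_isPrime _⟩, PrimeSpectrum.ext ?_⟩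
  ext x
  show φ (x ⊗ₜ[B] (1 : S)) = 0 ↔ x ∈ p.asIdeal
  rw [Algebra.TensorProduct.productMap_apply_tmul, map_one, mul_one, ← Ideal.algebraMap_residueField_eq_zero (I := p.asIdeal)]
  exact map_eq_zero_iff g1 g1.injective

variable {A₀ : Type u} [CommRing A₀] {A : Type u} [CommRing A] [Algebra A₀ A]

variable (C₀ : Type u) [CommRing C₀] [HopfAlgebra A₀ C₀]

/-- The points over which some etale algebra makes the group diagonalisable. -/
def Good (B : Subalgebra A₀ A) (p : PrimeSpectrum B) : Prop :=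
  ∃ (S : Type u) (_ : CommRing S) (_ : Algebra A₀ S) (_ : Algebra B S) (_ : IsScalarTower A₀ B S),
    Algebra.Etale B S ∧ SGA3b.IsDiag S (S ⊗[A₀] C₀) ∧ p ∈ Set.range (PrimeSpectrum.comap (algebraMap B S))

theorem isOpen_good (B : Subalgebra A₀ A) : IsOpen {p | Good C₀ B p} := by
  rw [isOpen_iff_forall_mem_open]
  rintro p ⟨S, _, _, _, _, het, hd, hp⟩
  haveI := het
  haveI : Algebra.HasGoingDown B S := Algebra.HasGoingDown.of_flat
  exact ⟨_, fun q hq => ⟨S, inferInstance, inferInstance, inferInstance, inferInstance, het, hd, hq⟩,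
    (PrimeSpectrum.isOpenMap_comap_of_hasGoingDown_of_finitePresentation (R := B) (S := S)).isOpen_range, hp⟩

theorem good_mono {B B' : Subalgebra A₀ A} (hle : B ≤ B') (p : PrimeSpectrum B')
    (h : Good C₀ B (PrimeSpectrum.comap (Subalgebra.inclusion hle).toRingHom p)) : Good C₀ B' p := by
  obtain ⟨S, _, _, _, _, het, ⟨M, _, ⟨e⟩⟩, hp⟩ := h
  letI : Algebra B B' := (Subalgebra.inclusion hle).toRingHom.toAlgebra
  haveI : IsScalarTower A₀ B B' := IsScalarTower.of_algebraMap_eq fun _ => rfl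
  haveI := het
  let S' := B' ⊗[B] S
  let f : S →ₐ[A₀] S' := (Algebra.TensorProduct.includeRight : S →ₐ[B] S').restrictScalars A₀
  obtain ⟨e', -⟩ := exists_diag_map (A := C₀) f e
  exact ⟨S', inferInstance, inferInstance, inferInstance, inferInstance, inferInstance, ⟨M, inferInstance, ⟨e'⟩⟩,
    mem_range_pushout p hp⟩

theorem etale_of_pushout {B B' S S' : Type u} [CommRing B] [CommRing B'] [CommRing S] [CommRing S'] [Algebra B B']
    [Algebra B S] [Algebra B S'] [Algebra B' S'] [Algebra S S'] [IsScalarTower B B' S'] [IsScalarTower B S S']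
    (hpo : Algebra.IsPushout B B' S S') [Algebra.Etale B S] : Algebra.Etale B' S' :=
  Algebra.Etale.of_equiv (Algebra.IsPushout.equiv B B' S S')

attribute [local instance] Algebra.TensorProduct.rightAlgebra in
theorem exists_base {A₀ A : Type u} [CommRing A₀] [CommRing A] [Algebra A₀ A] (B : Subalgebra A₀ A) (E₁ : Type u)
    [CommRing E₁] [Algebra B E₁] :
    ∃ (L : Type u) (_ : CommRing L) (_ : Algebra A L) (_ : Algebra E₁ L) (_ : IsScalarTower B E₁ L),
      Algebra.IsPushout B A E₁ L ∧ Nonempty ((A ⊗[B] E₁) ≃ₐ[A] L) := by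
  haveI : IsScalarTower B E₁ (A ⊗[B] E₁) := IsScalarTower.of_algebraMap_eq fun b =>
    ((Algebra.TensorProduct.includeRight : E₁ →ₐ[B] A ⊗[B] E₁).commutes b).symm
  exact ⟨A ⊗[B] E₁, inferInstance, inferInstance, inferInstance, inferInstance,
    TensorProduct.isPushout, ⟨AlgEquiv.refl⟩⟩

theorem isotrivial_of_surj {A₀ B B₁ B₂ S : Type u} [CommRing A₀] [CommRing B] [CommRing B₁] [CommRing B₂] [CommRing S]
    [Algebra A₀ B] [Algebra A₀ B₂] [Algebra B B₁] [Algebra B₁ B₂] [Algebra B B₂] [IsScalarTower B B₁ B₂]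
    [IsScalarTower A₀ B B₂] [Algebra A₀ S] [Algebra B S] [IsScalarTower A₀ B S] [Algebra.Etale B S]
    {S₁ : Type u} [CommRing S₁] [Algebra B S₁] [Algebra B₁ S₁] [Algebra S S₁] [IsScalarTower B B₁ S₁]
    [IsScalarTower B S S₁] (hpo : Algebra.IsPushout B B₁ S S₁) [Module.Finite B₁ S₁]
    {C : Type u} [CommRing C] [HopfAlgebra A₀ C] (hd : SGA3b.IsDiag S (S ⊗[A₀] C))
    (h : ∀ p : PrimeSpectrum B₂, PrimeSpectrum.comap (algebraMap B B₂) p ∈ Set.range (PrimeSpectrum.comap (algebraMap B S))) :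
    SGA3b.IsIsotrivial B₂ (B₂ ⊗[A₀] C) := by
  obtain ⟨M, _, ⟨e⟩⟩ := hd
  haveI := hpo
  let U := B₂ ⊗[B] S
  let Ψ : U ≃ₐ[B₂] B₂ ⊗[B₁] (B₁ ⊗[B] S) := (Algebra.TensorProduct.cancelBaseChange B B₁ B₂ B₂ S).symm
  haveI : Module.Finite B₁ (B₁ ⊗[B] S) := Module.Finite.equiv (Algebra.IsPushout.equiv B B₁ S S₁).symm.toLinearEquiv
  haveI : Module.Finite B₂ U := Module.Finite.equiv Ψ.symm.toLinearEquiv
  haveI : Module.FaithfullyFlat B₂ U := Module.FaithfullyFlat.of_comap_surjective fun p => mem_range_pushout p (h p)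
  obtain ⟨e', -⟩ := exists_diag_map (A := C) ((Algebra.TensorProduct.includeRight : S →ₐ[B] U).restrictScalars A₀) e
  obtain ⟨T, -⟩ := exists_towerEquiv A₀ B₂ U C
  exact ⟨U, inferInstance, inferInstance, inferInstance, inferInstance, inferInstance, M, inferInstance, ⟨T.symm.trans e'⟩⟩

/-- An algebra of finite type which is finite in the limit is finite at a finitely generated stage. -/
theorem finite_stage {B : Type u} [CommRing B] {A : Type u} [CommRing A] [Algebra B A] {S : Type u} [CommRing S]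
    [Algebra B S] [Algebra.FiniteType B S] (L : Type u) [CommRing L] [Algebra B L] [Algebra A L] [Algebra S L]
    [IsScalarTower B A L] [IsScalarTower B S L] [Algebra.IsPushout B A S L] [Module.Finite A L] :
    ∃ (B' : Subalgebra B A) (S' : Type u) (_ : CommRing S') (_ : Algebra B S') (_ : Algebra B' S') (_ : Algebra S S')
      (_ : IsScalarTower B B' S') (_ : IsScalarTower B S S'),
      B'.FG ∧ Algebra.IsPushout B B' S S' ∧ Module.Finite B' S' := by
  classical
  obtain ⟨t, ht⟩ := (inferInstance : Algebra.FiniteType B S).out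
  haveI : Algebra.IsIntegral A L := Algebra.IsIntegral.of_finite A L
  choose P hPm hPx using fun x : t => Algebra.IsIntegral.isIntegral (R := A) (algebraMap S L x.1)
  let B₁ : Subalgebra B A := Algebra.adjoin B ((Finset.univ.biUnion fun x => (P x).coeffs : Finset A) : Set A)
  have hB₁ : B₁.FG := Subalgebra.fg_adjoin_finset _
  have hlift : ∀ x, ∃ q : Polynomial B₁, q.map (algebraMap B₁ A) = P x ∧ q.Monic := by
    intro x
    rcases subsingleton_or_nontrivial A with hA | hA
    · exact ⟨1, Subsingleton.elim _ _, Polynomial.monic_one⟩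
    obtain ⟨q, hq, -, hqm⟩ := Polynomial.lifts_and_degree_eq_and_monic (f := algebraMap B₁ A) (p := P x)
      ((Polynomial.lifts_iff_coeff_lifts _).2 fun n => by
        by_cases hn : (P x).coeff n = 0
        · exact ⟨0, by rw [hn, map_zero]⟩
        · exact ⟨⟨_, Algebra.subset_adjoin (Finset.mem_biUnion.2
            ⟨x, Finset.mem_univ x, Polynomial.coeff_mem_coeffs hn⟩)⟩, rfl⟩) (hPm x)
    exact ⟨q, hq, hqm⟩
  choose q hq hqm using hlift
  obtain ⟨S₁, _, _, _, _, _, _, _, _, _, hpo₁, hpo₁'⟩ := exists_stage (A := A) S L B₁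
  haveI := hpo₁'
  let z : t → S₁ := fun x => Polynomial.aeval (algebraMap S S₁ x.1) (q x)
  obtain ⟨B₂, hB₂, hkill⟩ := exists_kill (B := B₁) (S := S₁) A (L := L) (X := S₁) z fun x => by
    apply (TensorProduct.rid S₁ L).injective
    rw [map_zero, TensorProduct.rid_tmul, Algebra.smul_def, mul_one, ← IsScalarTower.toAlgHom_apply B₁ S₁ L,
      ← Polynomial.aeval_algHom_apply, IsScalarTower.toAlgHom_apply, ← IsScalarTower.algebraMap_apply S S₁ L,
      ← Polynomial.aeval_map_algebraMap A, hq]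
    exact hPx x
  obtain ⟨S₂, _, _, _, _, _, _, _, _, _, hpo₂, -⟩ := exists_stage (A := A) S₁ L B₂
  letI : Algebra B S₂ := Algebra.compHom S₂ (algebraMap B B₁)
  letI : Algebra S S₂ := Algebra.compHom S₂ (algebraMap S S₁)
  haveI : IsScalarTower B B₁ S₂ := IsScalarTower.of_algebraMap_eq fun _ => rfl
  haveI : IsScalarTower S S₁ S₂ := IsScalarTower.of_algebraMap_eq fun _ => rfl
  haveI : IsScalarTower B S₁ S₂ := IsScalarTower.of_algebraMap_eq fun b => by
    rw [IsScalarTower.algebraMap_apply B B₁ S₁, ← IsScalarTower.algebraMap_apply B₁ S₁ S₂]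
    rfl
  haveI : IsScalarTower B S S₂ := IsScalarTower.of_algebraMap_eq fun b => by
    rw [IsScalarTower.algebraMap_apply S S₁ S₂, ← IsScalarTower.algebraMap_apply B S S₁, ← IsScalarTower.algebraMap_apply B S₁ S₂]
  haveI : IsScalarTower B B₂ S₂ := IsScalarTower.of_algebraMap_eq fun b => by
    rw [IsScalarTower.algebraMap_apply B B₁ B₂, ← IsScalarTower.algebraMap_apply B₁ B₂ S₂]
    rfl
  haveI := hpo₁
  haveI := hpo₂
  haveI hcomp : Algebra.IsPushout B B₂ S S₂ := (Algebra.IsPushout.comp_iff B B₁ S S₁).mpr hpo₂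
  haveI : Algebra.FiniteType B B₁ := B₁.fg_iff_finiteType.1 hB₁
  haveI : Algebra.FiniteType B₁ B₂ := B₂.fg_iff_finiteType.1 hB₂
  have hft : Algebra.FiniteType B B₂ := Algebra.FiniteType.trans (S := B₁) inferInstance inferInstance
  have hint : ∀ x ∈ t, IsIntegral B₂ (algebraMap S S₂ x) := by
    intro x hx
    refine ⟨(q ⟨x, hx⟩).map (algebraMap B₁ B₂), (hqm ⟨x, hx⟩).map _, ?_⟩
    rw [← Polynomial.aeval_def, Polynomial.aeval_map_algebraMap, IsScalarTower.algebraMap_apply S S₁ S₂,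
      Polynomial.aeval_algebraMap_apply]
    have h := congrArg (TensorProduct.rid S₁ S₂) (hkill S₂ hpo₂ ⟨x, hx⟩)
    rw [map_zero, TensorProduct.rid_tmul, Algebra.smul_def, mul_one] at h
    exact h
  have htop : Algebra.adjoin B₂ (algebraMap S S₂ '' (t : Set S)) = ⊤ := by
    rw [eq_top_iff]
    rintro y -
    induction y using hcomp.out.inductionOn with
    | zero => exact zero_mem _
    | add a b ha hb => exact add_mem ha hb
    | smul r a ha => exact Subalgebra.smul_mem _ ha r
    | tmul x =>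
      show algebraMap S S₂ x ∈ _
      have hx : x ∈ Algebra.adjoin B (t : Set S) := ht ▸ trivial
      induction hx using Algebra.adjoin_induction with
      | mem w hw => exact Algebra.subset_adjoin ⟨w, hw, rfl⟩
      | algebraMap r =>
        rw [← IsScalarTower.algebraMap_apply, IsScalarTower.algebraMap_apply B B₂ S₂]
        exact Subalgebra.algebraMap_mem _ _
      | add a c _ _ ha hc => rw [map_add]; exact add_mem ha hc
      | mul a c _ _ ha hc => rw [map_mul]; exact mul_mem ha hc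
  refine ⟨B₂.restrictScalars B, S₂, inferInstance, inferInstance, inferInstanceAs (Algebra B₂ S₂), inferInstance,
    inferInstanceAs (IsScalarTower B B₂ S₂), inferInstance, (Subalgebra.fg_iff_finiteType _).2 hft, hcomp, ?_⟩
  show Module.Finite B₂ S₂
  rw [Module.finite_def, ← Algebra.top_toSubmodule, ← htop]
  exact fg_adjoin_of_finite (t.finite_toSet.image _) (by
    rintro _ ⟨w, hw, rfl⟩
    exact hint w hw)

theorem finite_of_model {B₁ B₂ E₁ S A L : Type u} [CommRing B₁] [CommRing B₂] [CommRing E₁] [CommRing S] [CommRing A]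
    [CommRing L] [Algebra B₁ B₂] [Algebra B₁ E₁] [Algebra B₁ S] [Algebra B₂ S] [Algebra E₁ S] [IsScalarTower B₁ B₂ S]
    [IsScalarTower B₁ E₁ S] (hpo : Algebra.IsPushout B₁ B₂ E₁ S) [Algebra B₁ A] [Algebra B₂ A]
    (hBA : ∀ x : B₁, algebraMap B₁ A x = algebraMap B₂ A (algebraMap B₁ B₂ x))
    [Algebra A L] [Algebra B₁ L] [Algebra E₁ L] [IsScalarTower B₁ A L] [IsScalarTower B₁ E₁ L]
    (hpoL : Algebra.IsPushout B₁ A E₁ L) (hS : Algebra.Etale B₂ S) [Module.Finite A L] :
    ∃ (B' : Subalgebra B₂ A) (S' : Type u) (_ : CommRing S') (_ : Algebra B₂ S') (_ : Algebra B' S') (_ : Algebra S S')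
      (_ : IsScalarTower B₂ B' S') (_ : IsScalarTower B₂ S S'),
      B'.FG ∧ Algebra.IsPushout B₂ B' S S' ∧ Module.Finite B' S' := by
  haveI := hpo
  haveI := hS
  haveI : IsScalarTower B₁ B₂ A := IsScalarTower.of_algebraMap_eq hBA
  letI : Algebra B₂ L := Algebra.compHom L (algebraMap B₂ A)
  haveI : IsScalarTower B₂ A L := IsScalarTower.of_algebraMap_eq fun _ => rfl
  haveI : IsScalarTower B₁ B₂ L := IsScalarTower.of_algebraMap_eq fun x => by
    rw [IsScalarTower.algebraMap_apply B₁ A L, IsScalarTower.algebraMap_apply B₁ B₂ A]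
    rfl
  let g₀ := Algebra.pushoutDesc (S := B₂) (R' := E₁) S (IsScalarTower.toAlgHom B₁ B₂ L) (IsScalarTower.toAlgHom B₁ E₁ L)
    (fun _ _ => mul_comm _ _)
  letI : Algebra S L := g₀.toRingHom.toAlgebra
  haveI : IsScalarTower E₁ S L := IsScalarTower.of_algebraMap_eq fun x =>
    (Algebra.pushoutDesc_right (S := B₂) (R' := E₁) S (IsScalarTower.toAlgHom B₁ B₂ L) (IsScalarTower.toAlgHom B₁ E₁ L) (fun _ _ => mul_comm _ _) x).symm
  haveI : IsScalarTower B₂ S L := IsScalarTower.of_algebraMap_eq fun x =>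
    (Algebra.pushoutDesc_left (S := B₂) (R' := E₁) S (IsScalarTower.toAlgHom B₁ B₂ L) (IsScalarTower.toAlgHom B₁ E₁ L) (fun _ _ => mul_comm _ _) x).symm
  haveI : IsScalarTower B₁ S L := IsScalarTower.of_algebraMap_eq fun x => (g₀.commutes x).symm
  haveI : Algebra.IsPushout B₂ A S L := (Algebra.IsPushout.comp_iff B₁ B₂ E₁ S).mp hpoL
  exact finite_stage (B := B₂) (S := S) L

attribute [local instance] Algebra.TensorProduct.rightAlgebra in
/-- An etale algebra diagonalising the group comes from a finitely generated stage. -/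
theorem model_of_etale [Algebra.FinitePresentation A₀ C₀] (E : Type u) [CommRing E] [Algebra A E] [Algebra.Etale A E]
    {M : Type u} [CommGroup M] [Group.FG M] (e : (E ⊗[A] (A ⊗[A₀] C₀)) ≃ₐc[E] MonoidAlgebra E M) :
    ∃ (B : Subalgebra A₀ A) (_ : B.FG) (S : Type u) (_ : CommRing S) (_ : Algebra A₀ S) (_ : Algebra B S) (_ : IsScalarTower A₀ B S)
      (g : S →+* E), Algebra.Etale B S ∧ SGA3b.IsDiag S (S ⊗[A₀] C₀) ∧
        (∀ b : B, g (algebraMap B S b) = algebraMap A E b) ∧
        (Module.Finite A E → ∃ (B' : Subalgebra B A) (S' : Type u) (_ : CommRing S') (_ : Algebra B S') (_ : Algebra B' S')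
          (_ : Algebra S S') (_ : IsScalarTower B B' S') (_ : IsScalarTower B S S'),
          B'.FG ∧ Algebra.IsPushout B B' S S' ∧ Module.Finite B' S') := by
  obtain ⟨B₁, E₁, _, _, hB₁, het, ⟨ε⟩⟩ := Algebra.Etale.exists_subalgebra_fg (R := A₀) (A := A) (B := E)
  letI : Algebra A₀ E₁ := Algebra.compHom E₁ (algebraMap A₀ B₁)
  haveI : IsScalarTower A₀ B₁ E₁ := IsScalarTower.of_algebraMap_eq fun _ => rfl
  obtain ⟨L, _, _, _, _, hpoL, ⟨εL⟩⟩ := exists_base B₁ E₁
  haveI := hpoL
  letI : Algebra A₀ L := Algebra.compHom L (algebraMap A₀ A)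
  haveI : IsScalarTower A₀ A L := IsScalarTower.of_algebraMap_eq fun _ => rfl
  haveI : IsScalarTower A₀ E₁ L := IsScalarTower.of_algebraMap_eq fun x => by
    rw [IsScalarTower.algebraMap_apply A₀ B₁ E₁, ← IsScalarTower.algebraMap_apply B₁ E₁ L,
      IsScalarTower.algebraMap_apply B₁ A L, ← IsScalarTower.algebraMap_apply A₀ B₁ A, ← IsScalarTower.algebraMap_apply A₀ A L]
  obtain ⟨e₁, -⟩ := exists_diag_map (A := A ⊗[A₀] C₀) (εL.toAlgHom.comp ε.toAlgHom) e
  obtain ⟨T₁, -⟩ := exists_towerEquiv A₀ A L C₀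
  obtain ⟨T₂, -⟩ := exists_towerEquiv A₀ E₁ L C₀
  obtain ⟨B₂, S, _, _, _, _, _, _, hfg, hpo, M', _, ⟨d⟩⟩ :=
    down_of_diag (B := B₁) (A := A) (S := E₁) (L := L) (D := E₁ ⊗[A₀] C₀) (T₂.symm.trans (T₁.trans e₁))
  haveI := hpo
  haveI := het
  letI : Algebra A₀ S := Algebra.compHom S (algebraMap A₀ B₁)
  haveI : IsScalarTower A₀ B₁ S := IsScalarTower.of_algebraMap_eq fun _ => rfl
  haveI : IsScalarTower A₀ E₁ S := IsScalarTower.of_algebraMap_eq fun x => by
    rw [IsScalarTower.algebraMap_apply A₀ B₁ E₁, ← IsScalarTower.algebraMap_apply B₁ E₁ S]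
    rfl
  haveI : IsScalarTower A₀ B₂ S := IsScalarTower.of_algebraMap_eq fun x => by
    rw [IsScalarTower.algebraMap_apply A₀ B₁ B₂, ← IsScalarTower.algebraMap_apply B₁ B₂ S]
    rfl
  haveI : Algebra.FiniteType A₀ B₁ := B₁.fg_iff_finiteType.1 hB₁
  haveI : Algebra.FiniteType B₁ B₂ := B₂.fg_iff_finiteType.1 hfg
  have hft : Algebra.FiniteType A₀ B₂ := Algebra.FiniteType.trans (S := B₁) inferInstance inferInstance
  have hS : Algebra.Etale B₂ S := etale_of_pushout hpo
  let g₀ := Algebra.pushoutDesc (S := B₂) (R' := E₁) S (IsScalarTower.toAlgHom B₁ B₂ L) (IsScalarTower.toAlgHom B₁ E₁ L)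
    (fun _ _ => mul_comm _ _)
  obtain ⟨T₃, -⟩ := exists_towerEquiv A₀ E₁ S C₀
  refine ⟨B₂.restrictScalars A₀, (Subalgebra.fg_iff_finiteType _).2 hft, S, inferInstance, inferInstance,
    inferInstanceAs (Algebra B₂ S), inferInstanceAs (IsScalarTower A₀ B₂ S), ((ε.trans εL).symm : L →+* E).comp g₀.toRingHom,
    hS, ⟨M', inferInstance, ⟨T₃.trans d⟩⟩, fun b => ?_, fun hfin => ?_⟩
  swap
  · haveI := hfin
    haveI : Module.Finite A L := Module.Finite.equiv (ε.trans εL).toLinearEquiv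
    exact finite_of_model hpo (fun _ => rfl) hpoL hS
  show (ε.trans εL).symm (g₀ (algebraMap B₂ S b)) = algebraMap A E (b : A)
  rw [show g₀ (algebraMap B₂ S b) = algebraMap B₂ L b from
    Algebra.pushoutDesc_left (S := B₂) (R' := E₁) S (IsScalarTower.toAlgHom B₁ B₂ L) (IsScalarTower.toAlgHom B₁ E₁ L) (fun _ _ => mul_comm _ _) b,
    ← (ε.trans εL).symm.commutes]
  rfl

/-- A closed set missed by the limit is missed at a finite stage. -/
theorem exists_avoid (B : Subalgebra A₀ A) (hB : B.FG) (V : Set (PrimeSpectrum B)) (hV : IsOpen V)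
    (h : ∀ P : PrimeSpectrum A, PrimeSpectrum.comap B.val.toRingHom P ∈ V) :
    ∃ (B' : Subalgebra A₀ A) (hle : B ≤ B'), B'.FG ∧
      ∀ p : PrimeSpectrum B', PrimeSpectrum.comap (Subalgebra.inclusion hle).toRingHom p ∈ V := by
  classical
  obtain ⟨J, hJ⟩ := (PrimeSpectrum.isClosed_iff_zeroLocus_ideal Vᶜ).1 hV.isClosed_compl
  have htop : J.map B.val.toRingHom = ⊤ := by
    by_contra hne
    obtain ⟨m, hm, hle⟩ := Ideal.exists_le_maximal _ hne
    have h1 : PrimeSpectrum.comap B.val.toRingHom ⟨m, hm.isPrime⟩ ∈ PrimeSpectrum.zeroLocus (J : Set B) :=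
      Ideal.map_le_iff_le_comap.1 hle
    rw [← hJ] at h1
    exact h1 (h _)
  have h1 : (1 : A) ∈ Submodule.span A (B.val.toRingHom '' (J : Set B)) := by
    show (1 : A) ∈ J.map B.val.toRingHom
    rw [htop]; trivial
  obtain ⟨c, hc, hc1⟩ := Submodule.mem_span_set.1 h1
  let B' := B ⊔ Algebra.adjoin A₀ ((c.support.image c : Finset A) : Set A)
  refine ⟨B', le_sup_left, hB.sup (Subalgebra.fg_adjoin_finset _), fun p => ?_⟩
  by_contra hp
  have hp1 : J ≤ p.asIdeal.comap (Subalgebra.inclusion (le_sup_left : B ≤ B')).toRingHom := by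
    have : PrimeSpectrum.comap (Subalgebra.inclusion (le_sup_left : B ≤ B')).toRingHom p ∈ PrimeSpectrum.zeroLocus (J : Set B) := hJ ▸ hp
    exact this
  apply p.isPrime.ne_top
  rw [Ideal.eq_top_iff_one]
  have key : ∀ x ∈ c.support, ∃ y : B', y ∈ p.asIdeal ∧ (y : A) = c x • x := by
    intro x hx
    obtain ⟨j, hj, rfl⟩ := hc hx
    refine ⟨⟨c (B.val.toRingHom j), Algebra.mem_sup_right (Algebra.subset_adjoin (Finset.mem_image_of_mem _ hx))⟩ *
      Subalgebra.inclusion le_sup_left j, Ideal.mul_mem_left _ _ (hp1 hj), rfl⟩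
  choose y hy hy' using key
  have : (1 : B') = ∑ x ∈ c.support.attach, y x.1 x.2 := by
    apply Subtype.ext
    rw [OneMemClass.coe_one, AddSubmonoidClass.coe_finset_sum, ← hc1, Finsupp.sum, ← Finset.sum_attach c.support]
    exact Finset.sum_congr rfl fun x _ => (hy' x.1 x.2).symm
  rw [this]
  exact Ideal.sum_mem _ fun x _ => hy x.1 x.2

theorem quasi_of_good {B : Subalgebra A₀ A} (h : ∀ p, Good C₀ B p) : SGA3b.IsQuasiIsotrivial B (B ⊗[A₀] C₀) := by
  refine ⟨{g | SGA3b.IsQuasiIsotrivialConst (Localization.Away g) (Localization.Away g ⊗[B] (B ⊗[A₀] C₀))}, ?_, fun _ hg => hg⟩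
  by_contra hne
  obtain ⟨m, hm, hle⟩ := Ideal.exists_le_maximal _ hne
  obtain ⟨S, _, _, _, _, het, ⟨M, _, ⟨e⟩⟩, hp⟩ := h ⟨m, hm.isPrime⟩
  haveI := het
  haveI : Algebra.HasGoingDown B S := Algebra.HasGoingDown.of_flat
  obtain ⟨_, ⟨g, rfl⟩, hgm, hgR⟩ := PrimeSpectrum.isTopologicalBasis_basic_opens.exists_subset_of_mem_open hp
    (PrimeSpectrum.isOpenMap_comap_of_hasGoingDown_of_finitePresentation (R := B) (S := S)).isOpen_range
  refine hgm (hle (Ideal.subset_span ?_))
  let Bg := Localization.Away g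
  let S' := Bg ⊗[B] S
  haveI : Algebra.Etale Bg S' := inferInstance
  haveI : Module.FaithfullyFlat Bg S' := Module.FaithfullyFlat.of_comap_surjective fun p => mem_range_pushout p (hgR (by
    show g ∉ _
    exact fun hgp => p.isPrime.ne_top (Ideal.eq_top_of_isUnit_mem _ hgp (IsLocalization.Away.algebraMap_isUnit g))))
  obtain ⟨T, -⟩ := exists_towerEquiv A₀ B S C₀
  obtain ⟨e', -⟩ := exists_diag_map (A := B ⊗[A₀] C₀) (Algebra.TensorProduct.includeRight : S →ₐ[B] S') (T.symm.trans e)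
  obtain ⟨T', -⟩ := exists_towerEquiv B Bg S' (B ⊗[A₀] C₀)
  exact ⟨S', inferInstance, inferInstance, inferInstance, inferInstance, M, inferInstance, ⟨T'.symm.trans e'⟩⟩

/-- **Descent of quasi-isotriviality to a finitely generated stage.** -/
theorem exists_quasi [Algebra.FinitePresentation A₀ C₀] (h : SGA3b.IsQuasiIsotrivial A (A ⊗[A₀] C₀)) :
    ∃ B : Subalgebra A₀ A, B.FG ∧ SGA3b.IsQuasiIsotrivial B (B ⊗[A₀] C₀) := by
  classical
  obtain ⟨s, hs, hc⟩ := h
  have hloc : ∀ P : PrimeSpectrum A, ∃ B : Subalgebra A₀ A, B.FG ∧ Good C₀ B (PrimeSpectrum.comap B.val.toRingHom P) := by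
    intro P
    obtain ⟨f, hf, hfP⟩ : ∃ f ∈ s, f ∉ P.asIdeal := by
      by_contra h
      simp only [not_exists, not_and, not_not] at h
      exact P.isPrime.ne_top (top_le_iff.mp (hs ▸ Ideal.span_le.mpr h))
    obtain ⟨E, _, _, het, hff, M, _, ⟨e⟩⟩ := hc f hf
    let Af := Localization.Away f
    letI : Algebra A E := Algebra.compHom E (algebraMap A Af)
    haveI : IsScalarTower A Af E := IsScalarTower.of_algebraMap_eq fun _ => rfl
    haveI := het
    haveI : Algebra.Etale A Af := Algebra.Etale.of_isLocalizationAway f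
    haveI : Algebra.Etale A E := Algebra.Etale.comp A Af E
    haveI : Module.FaithfullyFlat Af E := hff
    obtain ⟨P', hP'⟩ : P ∈ Set.range (PrimeSpectrum.comap (algebraMap A Af)) := by
      rw [PrimeSpectrum.localization_away_comap_range Af f]; exact hfP
    obtain ⟨Q, hQ⟩ := PrimeSpectrum.comap_surjective_of_faithfullyFlat (A := Af) (B := E) P'
    haveI : Nontrivial E := nontrivial_of_ne 0 1 fun h0 => Q.isPrime.ne_top ((Ideal.eq_top_iff_one _).mpr (h0 ▸ Q.asIdeal.zero_mem))
    obtain ⟨U, -⟩ := exists_towerEquiv A Af E (A ⊗[A₀] C₀)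
    haveI : Group.FG M := fg_of_finiteType (inferInstance : Algebra.FiniteType A (A ⊗[A₀] C₀)) (U.trans e)
    obtain ⟨B, hB, S, _, _, _, _, g, hS, hd, hg, -⟩ := model_of_etale C₀ E (U.trans e)
    refine ⟨B, hB, S, inferInstance, inferInstance, inferInstance, inferInstance, hS, hd, PrimeSpectrum.comap g Q, ?_⟩
    rw [← PrimeSpectrum.comap_comp_apply, show g.comp (algebraMap B S) = (algebraMap A E).comp B.val.toRingHom from RingHom.ext hg,
      PrimeSpectrum.comap_comp_apply, IsScalarTower.algebraMap_eq A Af E, PrimeSpectrum.comap_comp_apply, hQ, hP']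
  choose B hB hgood using hloc
  obtain ⟨t, ht⟩ := (isCompact_univ (X := PrimeSpectrum A)).elim_finite_subcover
    (fun P => PrimeSpectrum.comap (B P).val.toRingHom ⁻¹' {p | Good C₀ (B P) p})
    (fun P => (isOpen_good C₀ (B P)).preimage (PrimeSpectrum.continuous_comap _))
    (fun P _ => Set.mem_iUnion.2 ⟨P, hgood P⟩)
  let B₁ := t.sup B
  have hB₁ : B₁.FG := Finset.sup_induction Subalgebra.fg_bot (fun _ ha _ hb => ha.sup hb) fun P _ => hB P
  obtain ⟨B₂, hle, hB₂, h2⟩ := exists_avoid B₁ hB₁ {p | Good C₀ B₁ p} (isOpen_good C₀ B₁) fun P => by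
    obtain ⟨Q, hQ, hPQ⟩ := Set.mem_iUnion₂.1 (ht (Set.mem_univ P))
    exact good_mono C₀ (Finset.le_sup hQ) _ hPQ
  exact ⟨B₂, hB₂, quasi_of_good C₀ fun p => good_mono C₀ hle p (h2 p)⟩

/-- **Descent of isotriviality to a finitely generated stage.** -/
theorem exists_iso_stage [Algebra.FinitePresentation A₀ C₀] (h : SGA3b.IsIsotrivial A (A ⊗[A₀] C₀)) :
    ∃ B : Subalgebra A₀ A, B.FG ∧ SGA3b.IsIsotrivial B (B ⊗[A₀] C₀) := by
  classical
  rcases subsingleton_or_nontrivial A with hA | hA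
  · haveI : Subsingleton (⊥ : Subalgebra A₀ A) := ⟨fun a b => Subtype.ext (Subsingleton.elim _ _)⟩
    haveI : Subsingleton ((⊥ : Subalgebra A₀ A) ⊗[(⊥ : Subalgebra A₀ A)] ((⊥ : Subalgebra A₀ A) ⊗[A₀] C₀)) :=
      Module.subsingleton (⊥ : Subalgebra A₀ A) _
    haveI : Subsingleton (MonoidAlgebra (⊥ : Subalgebra A₀ A) PUnit.{u+1}) := Module.subsingleton (⊥ : Subalgebra A₀ A) _
    exact ⟨⊥, Subalgebra.fg_bot, (⊥ : Subalgebra A₀ A), inferInstance, inferInstance, inferInstance, inferInstance, inferInstance,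
      isDiag_of_bijective (M₀ := PUnit.{u+1}) 1 (fun _ => ⟨Subsingleton.elim _ _, Subsingleton.elim _ _⟩)
        ⟨fun _ _ _ => Subsingleton.elim _ _, fun _ => ⟨0, Subsingleton.elim _ _⟩⟩⟩
  obtain ⟨E, _, _, het, hfin, hff, M, _, ⟨e⟩⟩ := h
  haveI := het
  haveI := hff
  haveI : Nontrivial E := by
    obtain ⟨Q, -⟩ := PrimeSpectrum.comap_surjective_of_faithfullyFlat (A := A) (B := E) Classical.ofNonempty
    exact nontrivial_of_ne 0 1 fun h0 => Q.isPrime.ne_top ((Ideal.eq_top_iff_one _).mpr (h0 ▸ Q.asIdeal.zero_mem))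
  haveI : Group.FG M := fg_of_finiteType (inferInstance : Algebra.FiniteType A (A ⊗[A₀] C₀)) e
  obtain ⟨B, hB, S, _, _, _, _, g, hS, ⟨M', _, ⟨d⟩⟩, hg, hfs⟩ := model_of_etale C₀ E e
  haveI := hS
  obtain ⟨B₁, S₁, _, _, _, _, _, _, hB₁, hpo₁, hfin₁⟩ := hfs hfin
  haveI : Algebra.FiniteType A₀ B := B.fg_iff_finiteType.1 hB
  haveI : Algebra.FiniteType B B₁ := B₁.fg_iff_finiteType.1 hB₁
  have hft : Algebra.FiniteType A₀ B₁ := Algebra.FiniteType.trans (S := B) inferInstance inferInstance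
  haveI : Algebra.HasGoingDown B S := Algebra.HasGoingDown.of_flat
  let V : Set (PrimeSpectrum B₁) := PrimeSpectrum.comap (algebraMap B B₁) ⁻¹' Set.range (PrimeSpectrum.comap (algebraMap B S))
  obtain ⟨B₂, hle, hB₂, hV⟩ := exists_avoid (B₁.restrictScalars A₀) ((Subalgebra.fg_iff_finiteType _).2 hft) V
    ((PrimeSpectrum.isOpenMap_comap_of_hasGoingDown_of_finitePresentation (R := B) (S := S)).isOpen_range.preimage
      (PrimeSpectrum.continuous_comap _)) fun P => by
    obtain ⟨Q, hQ⟩ := PrimeSpectrum.comap_surjective_of_faithfullyFlat (A := A) (B := E) P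
    refine ⟨PrimeSpectrum.comap g Q, ?_⟩
    rw [← hQ]
    simp only [← PrimeSpectrum.comap_comp_apply]
    exact congrArg (fun f => PrimeSpectrum.comap f Q) (RingHom.ext (f := g.comp (algebraMap B S)) (g := (algebraMap A E).comp B.val.toRingHom) fun b => hg b)
  letI : Algebra B₁ B₂ := (Subalgebra.inclusion hle).toRingHom.toAlgebra
  letI : Algebra B B₂ := Algebra.compHom B₂ (algebraMap B B₁)
  haveI : IsScalarTower B B₁ B₂ := IsScalarTower.of_algebraMap_eq fun _ => rfl
  haveI : IsScalarTower A₀ B B₂ := IsScalarTower.of_algebraMap_eq fun _ => rfl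
  haveI := hfin₁
  exact ⟨B₂, hB₂, isotrivial_of_surj hpo₁ ⟨M', inferInstance, ⟨d⟩⟩ fun p => hV p⟩

/-- Quasi-isotrivial algebras of finite type are of finite presentation. -/
theorem finitePresentation_of_quasi {R C : Type u} [CommRing R] [CommRing C] [HopfAlgebra R C]
    (hft : Algebra.FiniteType R C) (h : SGA3b.IsQuasiIsotrivial R C) : Algebra.FinitePresentation R C := by
  obtain ⟨s, hs, hc⟩ := h
  refine Algebra.FinitePresentation.of_span_eq_top_target (algebraMap R C '' s) (by rw [← Ideal.map_span, hs, Ideal.map_top]) ?_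
  rintro _ ⟨f, hf, rfl⟩
  obtain ⟨R', _, _, het, hff, M, _, ⟨e⟩⟩ := hc f hf
  let Rf := Localization.Away f
  haveI := hft
  haveI : Module.FaithfullyFlat Rf R' := hff
  haveI : Algebra.FiniteType Rf (Rf ⊗[R] C) := inferInstance
  haveI : Algebra.FinitePresentation R' (R' ⊗[Rf] (Rf ⊗[R] C)) := by
    rcases subsingleton_or_nontrivial R' with hR | hR
    · haveI : Subsingleton (MonoidAlgebra R' M) := Module.subsingleton R' _
      haveI : Algebra.FinitePresentation R' (MonoidAlgebra R' M) :=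
        Algebra.FinitePresentation.equiv (AlgEquiv.ofBijective (Algebra.ofId R' (MonoidAlgebra R' M))
          ⟨fun _ _ _ => Subsingleton.elim _ _, fun x => ⟨1, Subsingleton.elim _ x⟩⟩)
      exact Algebra.FinitePresentation.equiv e.toAlgEquiv.symm
    · haveI : Group.FG M := fg_of_finiteType (inferInstance : Algebra.FiniteType Rf (Rf ⊗[R] C)) e
      haveI := finitePresentation_monoidAlgebra R' M
      exact Algebra.FinitePresentation.equiv e.toAlgEquiv.symm
  haveI : Algebra.FinitePresentation Rf (Rf ⊗[R] C) := .of_finitePresentation_tensorProduct_of_faithfullyFlat R'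
  haveI : Algebra.FinitePresentation R Rf := IsLocalization.Away.finitePresentation f
  haveI : Algebra.FinitePresentation R (Rf ⊗[R] C) := Algebra.FinitePresentation.trans R Rf _
  exact Algebra.FinitePresentation.equiv ((Algebra.TensorProduct.comm R Rf C).trans
    ((IsLocalization.algEquiv (Submonoid.powers (algebraMap R C f)) (C ⊗[R] Rf) _).restrictScalars R))

end Groth.Agent.H24.DiagLimit
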